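import Mathlib

/-! # Clopen lifting along finite morphisms and coproducts -/

set_option autoImplicit false
set_option maxHeartbeats 800000

universe u

open CategoryTheory CategoryTheory.Limits AlgebraicGeometry

namespace Groth.Agent.HensPair

/-- Clopens lift uniquely along every finite morphism. -/
def Lifts {X X₀ : Scheme.{u}} (i : X₀ ⟶ X) : Prop :=
  ∀ (Y : Scheme.{u}) (g : Y ⟶ X), IsFinite g →
      ∀ V : Set ↥(pullback g i), IsClopen V →
        ∃! U : Set ↥Y, IsClopen U ∧ (pullback.fst g i).base ⁻¹' U = V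

variable {ι : Type u} {X X₀ : ι → Scheme.{u}} (i : ∀ j, X₀ j ⟶ X j)

theorem eq_of_ι_eq {Z : ι → Scheme.{u}} {j k : ι} {x : Z j} {y : Z k}
    (h : Sigma.ι Z j x = Sigma.ι Z k y) : j = k := by
  rw [← sigmaMk_mk Z j x, ← sigmaMk_mk Z k y] at h
  exact congrArg Sigma.fst ((sigmaMk Z).injective h)

theorem isPullback_sigmaMap (j : ι) :
    IsPullback (Sigma.ι X₀ j) (i j) (Limits.Sigma.map i) (Sigma.ι X j) := by
  refine (IsOpenImmersion.isPullback (i j) (Sigma.ι X₀ j) (Sigma.ι X j) (Limits.Sigma.map i)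
    (Limits.Sigma.ι_map _ j) ?_).flip
  ext z
  constructor
  · rintro ⟨w, hw⟩
    obtain ⟨⟨k, y⟩, rfl⟩ := (sigmaMk X₀).surjective z
    rw [sigmaMk_mk] at hw ⊢
    obtain rfl := eq_of_ι_eq (hw.trans congr($(Limits.Sigma.ι_map i k) y))
    exact ⟨y, rfl⟩
  · rintro ⟨w, rfl⟩
    exact ⟨i j w, congr($(Limits.Sigma.ι_map i j) w).symm⟩

theorem isClosedImmersion_sigmaMap [∀ j, IsClosedImmersion (i j)] :
    IsClosedImmersion (Limits.Sigma.map i) := by
  refine IsZariskiLocalAtTarget.of_openCover (P := @IsClosedImmersion) (sigmaOpenCover X) fun j => ?_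
  show IsClosedImmersion (pullback.snd (Limits.Sigma.map i) (Sigma.ι X j))
  rw [← (isPullback_sigmaMap i j).isoPullback_inv_snd]
  infer_instance

theorem isClosedImmersion_ι (j : ι) : IsClosedImmersion (Sigma.ι X j) := by
  refine IsClosedImmersion.of_isPreimmersion _ ⟨?_⟩
  have h : (Set.range (Sigma.ι X j))ᶜ = ⋃ (k) (_ : k ≠ j), Set.range (Sigma.ι X k) := by
    ext z
    obtain ⟨⟨k, y⟩, rfl⟩ := (sigmaMk X).surjective z
    rw [sigmaMk_mk]
    constructor
    · intro hz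
      exact Set.mem_iUnion₂.mpr ⟨k, fun hk => hz (by subst hk; exact ⟨y, rfl⟩), y, rfl⟩
    · intro hz ⟨w, hw⟩
      obtain ⟨k', hk', y', hy'⟩ := Set.mem_iUnion₂.mp hz
      exact hk' ((eq_of_ι_eq hy').trans (eq_of_ι_eq hw).symm)
  rw [h]
  exact isOpen_iUnion fun k => isOpen_iUnion fun _ => (Sigma.ι X k).isOpenEmbedding.isOpen_range

theorem lifts_component (h : Lifts (Limits.Sigma.map i)) (j : ι) : Lifts (i j) := by
  intro Y g hg V hV
  haveI := isClosedImmersion_ι (X := X) j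
  have hg' : IsFinite (g ≫ Sigma.ι X j) := MorphismProperty.comp_mem _ _ _ hg inferInstance
  let e := ((IsPullback.of_hasPullback g (i j)).paste_vert (isPullback_sigmaMap i j).flip).isoPullback
  have he : pullback.fst g (i j) = e.hom ≫ pullback.fst (g ≫ Sigma.ι X j) (Limits.Sigma.map i) :=
    (IsPullback.isoPullback_hom_fst _).symm
  let eh := Scheme.homeoOfIso e
  obtain ⟨U, ⟨hU, hUV⟩, huni⟩ := h Y _ hg' (eh.symm ⁻¹' V) (hV.preimage eh.symm.continuous)
  have key : ∀ U : Set ↥Y, (pullback.fst g (i j)).base ⁻¹' U = V ↔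
      (pullback.fst (g ≫ Sigma.ι X j) (Limits.Sigma.map i)).base ⁻¹' U = eh.symm ⁻¹' V := fun U => by
    rw [he]
    constructor
    · intro hU'
      ext q
      rw [Set.mem_preimage (f := eh.symm), ← hU']
      show _ ↔ (pullback.fst (g ≫ Sigma.ι X j) (Limits.Sigma.map i)).base (eh (eh.symm q)) ∈ U
      rw [eh.apply_symm_apply]
      rfl
    · intro hU'
      ext p
      show eh p ∈ (pullback.fst (g ≫ Sigma.ι X j) (Limits.Sigma.map i)).base ⁻¹' U ↔ p ∈ V
      rw [hU', Set.mem_preimage, eh.symm_apply_apply]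
  exact ⟨U, ⟨hU, (key U).mpr hUV⟩, fun U' ⟨h1, h2⟩ => huni U' ⟨h1, (key U').mp h2⟩⟩

theorem lifts_sigma [∀ j, IsClosedImmersion (i j)] (h : ∀ j, Lifts (i j)) :
    Lifts (Limits.Sigma.map i) := by
  intro Y g hg V hV
  haveI := isClosedImmersion_sigmaMap i
  let F := pullback.fst g (Limits.Sigma.map i)
  haveI : IsClosedImmersion F := MorphismProperty.pullback_fst _ _ inferInstance
  let e := fun j => pullback.fst g (Sigma.ι X j)
  let gj := fun j => pullback.snd g (Sigma.ι X j)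
  let m := fun j => pullback.lift (f := g) (g := Limits.Sigma.map i)
    (pullback.fst (gj j) (i j) ≫ e j) (pullback.snd (gj j) (i j) ≫ Sigma.ι X₀ j)
    (by rw [Category.assoc, Category.assoc, Limits.Sigma.ι_map, pullback.condition, pullback.condition_assoc])
  have hmem : ∀ (j : ι) (y : ↥(pullback g (Sigma.ι X j))), g (e j y) = Sigma.ι X j (gj j y) := fun j y =>
    congr($(pullback.condition (f := g) (g := Sigma.ι X j)) y)
  have hcov : ∀ y : Y, ∃ j w, e j w = y := fun y => by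
    obtain ⟨⟨j, x⟩, hx⟩ := (sigmaMk X).surjective (g y)
    rw [sigmaMk_mk] at hx
    obtain ⟨w, hw, -⟩ := Scheme.Pullback.exists_preimage_pullback (f := g) (g := Sigma.ι X j) y x hx.symm
    exact ⟨j, w, hw⟩
  have hdisj : ∀ (j k : ι) (a : ↥(pullback g (Sigma.ι X j))) (b : ↥(pullback g (Sigma.ι X k))),
      e j a = e k b → j = k := fun j k a b hab =>
    eq_of_ι_eq ((hmem j a).symm.trans ((congrArg g hab).trans (hmem k b)))
  have hm : ∀ j p, F (m j p) = e j (pullback.fst (gj j) (i j) p) := fun j p =>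
    congr($(pullback.lift_fst (f := g) (g := Limits.Sigma.map i) (pullback.fst (gj j) (i j) ≫ e j)
      (pullback.snd (gj j) (i j) ≫ Sigma.ι X₀ j) _) p)
  have hmcov : ∀ (j : ι) (y : ↥(pullback g (Sigma.ι X j))) (p : ↥(pullback g (Limits.Sigma.map i))),
      F p = e j y → ∃ p', pullback.fst (gj j) (i j) p' = y ∧ m j p' = p := fun j y p hp => by
    obtain ⟨⟨k, a⟩, ha⟩ := (sigmaMk X₀).surjective ((pullback.snd g (Limits.Sigma.map i)).base p)
    rw [sigmaMk_mk] at ha
    have h1 : g (F p) = Limits.Sigma.map i (Sigma.ι X₀ k a) := by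
      rw [ha]; exact congr($(pullback.condition (f := g) (g := Limits.Sigma.map i)) p)
    have h2 : Limits.Sigma.map i (Sigma.ι X₀ k a) = Sigma.ι X k (i k a) := congr($(Limits.Sigma.ι_map i k) a)
    rw [hp, hmem, h2] at h1
    obtain rfl := eq_of_ι_eq h1
    obtain ⟨p', hp', -⟩ := Scheme.Pullback.exists_preimage_pullback (f := gj j) (g := i j) y a
      ((Sigma.ι X j).isOpenEmbedding.injective h1)
    exact ⟨p', hp', F.isClosedEmbedding.injective (by rw [hm, hp', hp])⟩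
  have hfin : ∀ j, IsFinite (gj j) := fun j => MorphismProperty.pullback_snd _ _ hg
  choose U hU using fun j => (h j _ (gj j) (hfin j) (m j ⁻¹' V) (hV.preimage (m j).continuous)).exists
  have huni : ∀ (j : ι) (W : Set ↥(pullback g (Sigma.ι X j))), IsClopen W →
      (pullback.fst (gj j) (i j)).base ⁻¹' W = m j ⁻¹' V → W = U j := fun j W h1 h2 =>
    (h j _ (gj j) (hfin j) (m j ⁻¹' V) (hV.preimage (m j).continuous)).unique ⟨h1, h2⟩ (hU j)
  let W : Set Y := ⋃ j, e j '' U j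
  have hWj : ∀ j, e j ⁻¹' W = U j := fun j => by
    ext a
    refine ⟨fun ha => ?_, fun ha => Set.mem_iUnion.mpr ⟨j, a, ha, rfl⟩⟩
    obtain ⟨k, b, hb, hba⟩ := Set.mem_iUnion.mp ha
    obtain rfl := hdisj k j b a hba
    rwa [← (e k).isOpenEmbedding.injective hba]
  have hWc : Wᶜ = ⋃ j, e j '' (U j)ᶜ := by
    ext y
    obtain ⟨j, a, rfl⟩ := hcov y
    show ¬ a ∈ e j ⁻¹' W ↔ _
    rw [hWj]
    refine ⟨fun ha => Set.mem_iUnion.mpr ⟨j, a, ha, rfl⟩, fun ha => ?_⟩
    obtain ⟨k, b, hb, hba⟩ := Set.mem_iUnion.mp ha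
    obtain rfl := hdisj k j b a hba
    rwa [← (e k).isOpenEmbedding.injective hba]
  refine ⟨W, ⟨⟨⟨?_⟩, isOpen_iUnion fun j => (e j).isOpenEmbedding.isOpenMap _ (hU j).1.2⟩, ?_⟩, ?_⟩
  · rw [hWc]
    exact isOpen_iUnion fun j => (e j).isOpenEmbedding.isOpenMap _ (hU j).1.compl.2
  · ext p
    obtain ⟨j, y, hy⟩ := hcov (F p)
    obtain ⟨p', hp', rfl⟩ := hmcov j y p hy.symm
    show F (m j p') ∈ W ↔ p' ∈ m j ⁻¹' V
    rw [hm, ← (hU j).2]
    exact Set.ext_iff.mp (hWj j) _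
  · rintro W' ⟨hW', hW'V⟩
    ext y
    obtain ⟨j, a, rfl⟩ := hcov y
    refine Set.ext_iff.mp ((huni j (e j ⁻¹' W') (hW'.preimage (e j).continuous) ?_).trans (hWj j).symm) a
    ext p
    show e j (pullback.fst (gj j) (i j) p) ∈ W' ↔ m j p ∈ V
    rw [← hm, ← hW'V]
    rfl

end Groth.Agent.HensPair
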