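import Mathlib

/-! # Quotients are pushouts -/

set_option autoImplicit false

universe u

open CategoryTheory CategoryTheory.Limits

namespace Groth.Agent.HensPair

theorem isPushout_quotient {A B : Type u} [CommRing A] [CommRing B] (φ : A →+* B) (I : Ideal A) :
    IsPushout (CommRingCat.ofHom φ) (CommRingCat.ofHom (Ideal.Quotient.mk I))
      (CommRingCat.ofHom (Ideal.Quotient.mk (I.map φ)))
      (CommRingCat.ofHom (Ideal.quotientMap (I.map φ) φ Ideal.le_comap_map)) := by
  have w : CommRingCat.ofHom φ ≫ CommRingCat.ofHom (Ideal.Quotient.mk (I.map φ)) =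
      CommRingCat.ofHom (Ideal.Quotient.mk I) ≫
        CommRingCat.ofHom (Ideal.quotientMap (I.map φ) φ Ideal.le_comap_map) :=
    CommRingCat.hom_ext (RingHom.ext fun _ => rfl)
  have hc : ∀ (s : PushoutCocone (CommRingCat.ofHom φ) (CommRingCat.ofHom (Ideal.Quotient.mk I))) (a : A),
      s.inl.hom (φ a) = s.inr.hom (Ideal.Quotient.mk I a) := fun s a => congr($(s.condition) a)
  refine IsPushout.of_isColimit' ⟨w⟩ (PushoutCocone.IsColimit.mk _
    (fun s => CommRingCat.ofHom (Ideal.Quotient.lift (I.map φ) s.inl.hom fun b hb =>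
      (Ideal.map_le_iff_le_comap.mpr (fun a ha => ?_) : I.map φ ≤ RingHom.ker s.inl.hom) hb))
    (fun s => CommRingCat.hom_ext (Ideal.Quotient.lift_comp_mk _ _ _))
    (fun s => CommRingCat.hom_ext (Ideal.Quotient.ringHom_ext ?_))
    (fun s m h1 _ => CommRingCat.hom_ext (Ideal.Quotient.ringHom_ext ?_)))
  · rw [Ideal.mem_comap, RingHom.mem_ker, hc, Ideal.Quotient.eq_zero_iff_mem.mpr ha, map_zero]
  · ext a
    simp only [CommRingCat.hom_comp, CommRingCat.hom_ofHom, RingHom.comp_apply, Ideal.quotientMap_mk,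
      Ideal.Quotient.lift_mk]
    exact hc s a
  · ext b
    simp only [CommRingCat.hom_ofHom, RingHom.comp_apply, Ideal.Quotient.lift_mk]
    exact congr($h1 b)

end Groth.Agent.HensPair
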