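import Groth.Agent.FinFibImage.Main
import Groth.Agent.FibIdem.Main
import Groth.Agent.Hensel.Ops
import Mathlib

/-! # Henselian couples: global sections form a henselian pair -/

set_option autoImplicit false
set_option maxHeartbeats 800000
set_option backward.isDefEq.respectTransparency false

universe u

open CategoryTheory CategoryTheory.Limits AlgebraicGeometry TensorProduct

noncomputable section

namespace Groth.Agent.HensPair

theorem bijective_baseChange {B C : Type u} [CommRing B] [CommRing C] [Algebra B C] [Module.Flat B C]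
    {X : Scheme.{u}} [CompactSpace X] [QuasiSeparatedSpace X] (f : X ⟶ Spec (CommRingCat.of B))
    [Algebra B Γ(X, ⊤)]
    (h : CommRingCat.ofHom (algebraMap B Γ(X, ⊤)) = (Scheme.ΓSpecIso (CommRingCat.of B)).inv ≫ f.appTop) :
    ∃ θ : C ⊗[B] Γ(X, ⊤) →+* Γ(pullback (Spec.map (CommRingCat.ofHom (algebraMap B C))) f, ⊤),
      Function.Bijective θ ∧ ∀ c x, θ (c ⊗ₜ x) =
        (pullback.fst (Spec.map (CommRingCat.ofHom (algebraMap B C))) f).appTop
            ((Scheme.ΓSpecIso (CommRingCat.of C)).inv c) *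
          (pullback.snd (Spec.map (CommRingCat.ofHom (algebraMap B C))) f).appTop x := by
  let p := Spec.map (CommRingCat.ofHom (algebraMap B C))
  haveI : Flat p := by
    rw [show Flat p ↔ _ from HasRingHomProperty.Spec_iff (P := @Flat)]
    exact RingHom.flat_algebraMap_iff.mpr ‹_›
  have Hc : IsPullback (pullback.snd p f) (pullback.fst p f) f p :=
    (IsPullback.of_hasPullback p f).flip
  have hpo : IsPushout p.appTop f.appTop (pullback.fst p f).appTop (pullback.snd p f).appTop := by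
    have h := (isIso_pushoutSection_iff Hc (US := ⊤) (UT := ⊤) (UX := ⊤) (UY := ⊤) (by simp) (by simp)
      (by simp)).mp (isIso_pushoutSection_of_isQuasiSeparated_of_flat_right Hc (by simp) (by simp)
        (by simp) (isAffineOpen_top _) (isAffineOpen_top _) isCompact_univ isQuasiSeparated_univ)
    have hle : ∀ {X Y : Scheme.{u}} (f : X ⟶ Y) (e : (⊤ : X.Opens) ≤ f ⁻¹ᵁ ⊤),
        f.appLE ⊤ ⊤ e = f.appTop := fun f e ↦ by simp [Scheme.Hom.appLE]
    simpa only [hle] using h.flip
  have hpo' : IsPushout (CommRingCat.ofHom (algebraMap B C)) (CommRingCat.ofHom (algebraMap B Γ(X, ⊤)))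
      ((Scheme.ΓSpecIso (CommRingCat.of C)).inv ≫ (pullback.fst p f).appTop)
      (pullback.snd p f).appTop := by
    refine hpo.of_iso (Scheme.ΓSpecIso (CommRingCat.of B)) (Scheme.ΓSpecIso (CommRingCat.of C))
      (Iso.refl _) (Iso.refl _) ?_ ?_ ?_ ?_
    · exact Scheme.ΓSpecIso_naturality _
    · rw [h, Iso.hom_inv_id_assoc, Iso.refl_hom, Category.comp_id]
    · rw [Iso.refl_hom, Category.comp_id, Iso.hom_inv_id_assoc]
    · simp
  have hte := CommRingCat.isPushout_tensorProduct B C Γ(X, ⊤)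
  refine ⟨(hte.isoIsPushout _ _ hpo').hom.hom,
    ConcreteCategory.bijective_of_isIso (hte.isoIsPushout _ _ hpo').hom, fun b c ↦ ?_⟩
  have h1 := congr($(IsPushout.inl_isoIsPushout_hom _ _ hte hpo') b)
  have h2 := congr($(IsPushout.inr_isoIsPushout_hom _ _ hte hpo') c)
  simp only [CommRingCat.hom_comp, RingHom.comp_apply] at h1 h2
  refine Eq.trans ?_ (congrArg₂ (· * ·) h1 h2)
  rw [← map_mul]
  congr 1
  simp

theorem mem_map_of_tmul_eq_zero {B C S : Type u} [CommRing B] [CommRing C] [Algebra B C]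
    [Module.Free B C] [CommRing S] [Algebra B S] {c : C} (hc : c ⊗ₜ[B] (1 : S) = 0) :
    c ∈ (RingHom.ker (algebraMap B S)).map (algebraMap B C) := by
  let b := Module.Free.chooseBasis B C
  rw [← b.linearCombination_repr c, Finsupp.linearCombination_apply, Finsupp.sum]
  refine Ideal.sum_mem _ fun i _ => ?_
  rw [Algebra.smul_def]
  refine Ideal.mul_mem_right _ _ (Ideal.mem_map_of_mem _ ?_)
  rw [RingHom.mem_ker, Algebra.algebraMap_eq_smul_one]
  have := congrArg (fun z => TensorProduct.lid B S ((b.coord i).rTensor S z)) hc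
  simpa using this

variable {X X₀ : Scheme.{u}} (i : X₀ ⟶ X) [IsClosedImmersion i]

/-- The kernel of `Γ(X) → Γ(X₀)` is in the radical when clopens lift along closed subschemes. -/
theorem ker_le_jacobson
    (hX : ∀ (Y : Scheme.{u}) (g : Y ⟶ X), IsFinite g →
      ∀ V : Set ↥(pullback g i), IsClopen V →
        ∃! U : Set ↥Y, IsClopen U ∧ (pullback.fst g i).base ⁻¹' U = V) :
    RingHom.ker i.appTop.hom ≤ Ideal.jacobson ⊥ := by
  intro b hb
  refine Ideal.mem_jacobson_bot.mpr fun c => ?_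
  set a : Γ(X, ⊤) := b * c + 1
  let q : CommRingCat.of Γ(X, ⊤) ⟶ CommRingCat.of (Γ(X, ⊤) ⧸ Ideal.span {a}) :=
    CommRingCat.ofHom (Ideal.Quotient.mk _)
  let g := pullback.fst X.toSpecΓ (Spec.map q)
  haveI : IsClosedImmersion (Spec.map q) :=
    IsClosedImmersion.spec_of_surjective _ Ideal.Quotient.mk_surjective
  haveI : IsClosedImmersion g := MorphismProperty.pullback_fst _ _ inferInstance
  have hrange : Set.range g = ((X.basicOpen a : X.Opens) : Set X)ᶜ := by
    rw [Scheme.Pullback.range_fst, ← Scheme.toSpecΓ_preimage_basicOpen, TopologicalSpace.Opens.map_coe,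
      ← Set.preimage_compl]
    congr 1
    refine (range_comap_of_surjective _ _ Ideal.Quotient.mk_surjective).trans ?_
    rw [Ideal.mk_ker, PrimeSpectrum.zeroLocus_span, PrimeSpectrum.basicOpen_eq_zeroLocus_compl, compl_compl]
  have hi : i ⁻¹ᵁ X.basicOpen a = ⊤ := by
    rw [Scheme.preimage_basicOpen, Scheme.basicOpen_of_isUnit]
    · simp
    · show IsUnit (i.appTop.hom (b * c + 1))
      rw [map_add, map_mul, RingHom.mem_ker.mp hb, zero_mul, zero_add, map_one]
      exact isUnit_one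
  haveI : IsEmpty ↥(pullback g i) := ⟨fun z => by
    have h1 : g ((pullback.fst g i).base z) = i ((pullback.snd g i).base z) := by
      rw [← Scheme.Hom.comp_apply, ← Scheme.Hom.comp_apply, pullback.condition]
    have h2 : g ((pullback.fst g i).base z) ∈ Set.range g := ⟨_, rfl⟩
    rw [hrange, h1] at h2
    exact h2 (show (pullback.snd g i).base z ∈ i ⁻¹ᵁ X.basicOpen a by rw [hi]; trivial)⟩
  obtain ⟨U, -, hU⟩ := hX _ g inferInstance ∅ isClopen_empty
  haveI : IsEmpty ↥(pullback X.toSpecΓ (Spec.map q)) := Set.univ_eq_empty_iff.mp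
    ((hU _ ⟨isClopen_univ, Subsingleton.elim _ _⟩).trans (hU _ ⟨isClopen_empty, rfl⟩).symm)
  rw [Set.range_eq_empty, eq_comm, Set.compl_empty_iff] at hrange
  have htop : X.basicOpen a = ⊤ := TopologicalSpace.Opens.ext hrange
  exact X.toRingedSpace.isUnit_of_isUnit_germ ⊤ a fun x hx =>
    (X.mem_basicOpen a x hx).mp (by rw [htop]; trivial)

/-- Idempotents of finite free algebras over `Γ(X)` lift from the quotient by the kernel. -/
theorem surjOn_idempotents [CompactSpace X] [QuasiSeparatedSpace X]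
    (hX : ∀ (Y : Scheme.{u}) (g : Y ⟶ X), IsFinite g →
      ∀ V : Set ↥(pullback g i), IsClopen V →
        ∃! U : Set ↥Y, IsClopen U ∧ (pullback.fst g i).base ⁻¹' U = V)
    (C : Type u) [CommRing C] [Algebra Γ(X, ⊤) C] [Module.Free Γ(X, ⊤) C] [Module.Finite Γ(X, ⊤) C] :
    Set.SurjOn (Ideal.Quotient.mk ((RingHom.ker i.appTop.hom).map (algebraMap Γ(X, ⊤) C)))
      {e : C | IsIdempotentElem e} {e | IsIdempotentElem e} := by
  intro e he
  haveI : QuasiCompact i := inferInstance
  haveI : CompactSpace X₀ := QuasiCompact.compactSpace_of_compactSpace i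
  haveI : QuasiSeparatedSpace X₀ := quasiSeparatedSpace_of_quasiSeparated i
  let p := Spec.map (CommRingCat.ofHom (algebraMap Γ(X, ⊤) C))
  haveI : IsFinite p := (IsFinite.SpecMap_iff (f := CommRingCat.ofHom (algebraMap Γ(X, ⊤) C))).mpr
    (RingHom.finite_algebraMap.mpr ‹_›)
  let g : pullback p X.toSpecΓ ⟶ X := pullback.snd p X.toSpecΓ
  haveI hg : IsFinite g := MorphismProperty.pullback_snd p X.toSpecΓ inferInstance
  haveI : CompactSpace ↥(pullback p X.toSpecΓ) := QuasiCompact.compactSpace_of_compactSpace g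
  let η : Γ(pullback p (i ≫ X.toSpecΓ), ⊤) →+* Γ(pullback g i, ⊤) :=
    (pullbackLeftPullbackSndIso p X.toSpecΓ i).hom.appTop.hom
  have hη : Function.Bijective η :=
    ConcreteCategory.bijective_of_isIso (pullbackLeftPullbackSndIso p X.toSpecΓ i).hom.appTop
  haveI : CompactSpace ↥(pullback g i) :=
    QuasiCompact.compactSpace_of_compactSpace (pullback.fst g i)
  let χ : C →+* Γ(pullback p X.toSpecΓ, ⊤) :=
    (pullback.fst p X.toSpecΓ).appTop.hom.comp (Scheme.ΓSpecIso (CommRingCat.of C)).inv.hom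
  let ρ : C →+* Γ(pullback g i, ⊤) := (pullback.fst g i).appTop.hom.comp χ
  have hρ : ρ = η.comp ((pullback.fst p (i ≫ X.toSpecΓ)).appTop.hom.comp
      (Scheme.ΓSpecIso (CommRingCat.of C)).inv.hom) := by
    have h := congrArg (fun m => (Scheme.Hom.appTop m).hom)
      (pullbackLeftPullbackSndIso_hom_fst p X.toSpecΓ i)
    simp only [Scheme.Hom.comp_appTop, CommRingCat.hom_comp] at h
    simp only [ρ, χ, η, ← RingHom.comp_assoc]
    exact congrArg (fun m => RingHom.comp m _) h.symm
  have hχ : Function.Bijective χ := by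
    obtain ⟨θ, hθ, hθt⟩ := bijective_baseChange (C := C) (B := Γ(X, ⊤)) X.toSpecΓ (by
      rw [Scheme.toSpecΓ_appTop, Iso.inv_hom_id]; rfl)
    have : (χ : C → _) = θ ∘ (TensorProduct.rid Γ(X, ⊤) C).symm := by
      funext c
      simp [χ, hθt, p]
    rw [this]
    exact hθ.comp (TensorProduct.rid Γ(X, ⊤) C).symm.bijective
  let J := (RingHom.ker i.appTop.hom).map (algebraMap Γ(X, ⊤) C)
  have hker : RingHom.ker ρ = J := by
    let : Algebra Γ(X, ⊤) Γ(X₀, ⊤) := i.appTop.hom.toAlgebra
    obtain ⟨θ, hθ, hθt⟩ := bijective_baseChange (C := C) (B := Γ(X, ⊤)) (i ≫ X.toSpecΓ) (by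
      rw [Scheme.Hom.comp_appTop, Scheme.toSpecΓ_appTop, Iso.inv_hom_id_assoc]; rfl)
    have h1 : ∀ c, ρ c = η (θ (c ⊗ₜ 1)) := fun c => by
      rw [hρ]; simp [hθt, p]
    refine le_antisymm (fun c hc => ?_) (Ideal.map_le_iff_le_comap.mpr fun b hb => ?_)
    · rw [RingHom.mem_ker, h1] at hc
      exact mem_map_of_tmul_eq_zero (S := Γ(X₀, ⊤))
        (hθ.1 (hη.1 (hc.trans (by rw [map_zero, map_zero]))))
    · rw [Ideal.mem_comap, RingHom.mem_ker, h1, Algebra.algebraMap_eq_smul_one, TensorProduct.smul_tmul,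
        ← Algebra.algebraMap_eq_smul_one, show algebraMap Γ(X, ⊤) Γ(X₀, ⊤) b = 0 from RingHom.mem_ker.mp hb,
        TensorProduct.tmul_zero, map_zero, map_zero]
  obtain ⟨e', rfl⟩ := Ideal.Quotient.mk_surjective e
  have he' : IsIdempotentElem (ρ e') := by
    show _ * _ = _
    rw [← map_mul, ← RingHom.sub_mem_ker_iff, hker, ← Ideal.Quotient.eq, map_mul]
    exact he
  obtain ⟨U, ⟨hU, hUV⟩, -⟩ := hX _ g hg ((pullback g i).basicOpen (ρ e') : Set ↥(pullback g i))
    ⟨⟨by rw [Groth.Agent.FibIdem.basicOpen_compl_of_idem he']; exact ((pullback g i).basicOpen _).2⟩,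
      ((pullback g i).basicOpen _).2⟩
  obtain ⟨ε, hε, hεU⟩ := Groth.Agent.FinFibImage.exists_idem_of_isClopen U hU
  obtain ⟨c, rfl⟩ := hχ.2 ε
  refine ⟨c, hχ.1 (by rw [map_mul]; exact hε), ?_⟩
  rw [Ideal.Quotient.eq]
  refine hker.le ((RingHom.sub_mem_ker_iff ρ).mpr ?_)
  refine Groth.Agent.FibIdem.eq_of_basicOpen_eq (hε.map (pullback.fst g i).appTop.hom) he'
    (TopologicalSpace.Opens.ext ?_)
  rw [← hUV, ← hεU]
  exact congrArg (fun W : (pullback g i).Opens => (W : Set ↥(pullback g i)))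
    (Scheme.preimage_basicOpen_top (pullback.fst g i) (χ c)).symm

theorem henselianRing_ker [CompactSpace X] [QuasiSeparatedSpace X]
    (hX : ∀ (Y : Scheme.{u}) (g : Y ⟶ X), IsFinite g →
      ∀ V : Set ↥(pullback g i), IsClopen V →
        ∃! U : Set ↥Y, IsClopen U ∧ (pullback.fst g i).base ⁻¹' U = V) :
    ∀ (p : Polynomial Γ(X, ⊤)), p.Monic →
      Set.SurjOn (Ideal.Quotient.mk ((RingHom.ker i.appTop.hom).map (algebraMap Γ(X, ⊤) (AdjoinRoot p))))
        {e : AdjoinRoot p | IsIdempotentElem e} {e | IsIdempotentElem e} := fun p hp =>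
  haveI := hp.free_adjoinRoot
  haveI := hp.finite_adjoinRoot
  surjOn_idempotents i hX (AdjoinRoot p)

end Groth.Agent.HensPair
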